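import Mathlib
import Cfsg.Agent.Lib.Characters.Kernel
import Cfsg.Agent.Lib.Characters.Schur

/-!
# Two facts on irreducible characters

Copied from `Lib/SmallSimple/DegreeGraph6000/Sixty`, to keep the imports small.
-/

set_option autoImplicit false
set_option linter.style.haveILetI false

namespace Cfsg.Agent.Involutions.RankOne.Char

open Cfsg.Agent.Characters
open scoped ComplexConjugate

/-- The square of a degree is at most the index of the centre. -/
theorem sq_degree_le_center_index {G : Type*} [Group G] [Finite G] {χ : G → ℂ}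
    (hχ : Cfsg.IsIrrCharacter G χ) {d : ℕ} (hd : χ 1 = (d : ℂ)) :
    d ^ 2 ≤ (Subgroup.center G).index := by
  classical
  haveI := Fintype.ofFinite G
  have hnorm := classInner_isIrr_self hχ
  obtain ⟨m, ρ, hρ, rfl⟩ := hχ
  rw [classInner_def, inv_mul_eq_iff_eq_mul₀ natCard_ne_zero, mul_one] at hnorm
  have hre := congrArg Complex.re hnorm
  rw [Complex.re_sum, Complex.natCast_re] at hre
  simp only [Complex.mul_conj, Complex.ofReal_re] at hre
  have hn : (Module.finrank ℂ (Fin m → ℂ) : ℂ) = d := by rw [← ρ.char_one]; exact hd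
  have hn0 : 0 < Module.finrank ℂ (Fin m → ℂ) := finrank_pos_of_isIrreducible ρ
  have habs : ∀ z : G, z ∈ Subgroup.center G → Complex.normSq (ρ.character z) = (d : ℝ) ^ 2 := by
    intro z hz
    obtain ⟨c, hc⟩ := schur_scalar ρ (ρ z) fun g v => by
      rw [← Module.End.mul_apply, ← Module.End.mul_apply, ← map_mul, ← map_mul,
        Subgroup.mem_center_iff.1 hz g]
    have hch : ρ.character z = c * d := by
      rw [← hn]; simp [Representation.character, hc]
    have hpow : ∀ k : ℕ, ρ (z ^ k) = c ^ k • LinearMap.id := fun k => by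
      induction k with
      | zero => simp [Module.End.one_eq_id]
      | succ k ih =>
        rw [pow_succ, map_mul, ih, hc]
        simp [Module.End.mul_eq_comp, smul_smul, pow_succ, mul_comm]
    have hck : c ^ Nat.card G = 1 := by
      have h := congrArg (LinearMap.trace ℂ (Fin m → ℂ)) (hpow (Nat.card G))
      rw [pow_card_eq_one', map_one, LinearMap.trace_one] at h
      rw [map_smul, LinearMap.trace_id, smul_eq_mul] at h
      exact (mul_right_cancel₀ (Nat.cast_ne_zero.2 hn0.ne') ((one_mul _).trans h)).symm
    have hc1 : Complex.normSq c = 1 := by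
      have h := congrArg Complex.normSq hck
      rw [map_pow, map_one] at h
      exact (pow_eq_one_iff_of_nonneg (Complex.normSq_nonneg c) Nat.card_pos.ne').1 h
    rw [hch, map_mul, hc1, one_mul, Complex.normSq_natCast, sq]
  have hle : ∑ g ∈ Finset.univ.filter (fun g : G => g ∈ Subgroup.center G), Complex.normSq (ρ.character g) ≤
      ∑ g : G, Complex.normSq (ρ.character g) :=
    Finset.sum_le_sum_of_subset_of_nonneg (Finset.filter_subset _ _) fun g _ _ => Complex.normSq_nonneg _
  rw [Finset.sum_congr rfl (fun g hg => habs g (Finset.mem_filter.1 hg).2), Finset.sum_const,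
    nsmul_eq_mul, hre] at hle
  have hcount : (Finset.univ.filter fun g : G => g ∈ Subgroup.center G).card = Nat.card (Subgroup.center G) := by
    rw [← Fintype.card_subtype, Nat.card_eq_fintype_card]
  rw [hcount] at hle
  have h2 : Nat.card (Subgroup.center G) * d ^ 2 ≤ Nat.card (Subgroup.center G) * (Subgroup.center G).index := by
    rw [Subgroup.card_mul_index]
    exact_mod_cast hle
  exact Nat.le_of_mul_le_mul_left h2 Nat.card_pos

/-- The product of two irreducible characters on a direct product. -/
theorem irr_prod {A B : Type*} [Group A] [Finite A] [Group B] [Finite B] {α : A → ℂ} {β : B → ℂ}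
    (hα : Cfsg.IsIrrCharacter A α) (hβ : Cfsg.IsIrrCharacter B β) :
    Cfsg.IsIrrCharacter (A × B) (fun x => α x.1 * β x.2) := by
  classical
  haveI := Fintype.ofFinite A
  haveI := Fintype.ofFinite B
  refine isIrr_of_isCharacter_of_norm_one
    (isCharacter_mul (isCharacter_comp (MonoidHom.fst A B) (isCharacter_of_isIrr hα))
      (isCharacter_comp (MonoidHom.snd A B) (isCharacter_of_isIrr hβ))) ?_
  have h1 := classInner_isIrr_self hα
  have h2 := classInner_isIrr_self hβ
  rw [classInner_def] at h1 h2 ⊢
  rw [Nat.card_prod, Nat.cast_mul, mul_inv, Fintype.sum_prod_type]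
  simp only [map_mul]
  rw [Finset.sum_congr rfl (g := fun a => (α a * conj (α a)) * ∑ b, β b * conj (β b)) fun a _ => by
    rw [Finset.mul_sum]; exact Finset.sum_congr rfl fun b _ => by ring, ← Finset.sum_mul]
  linear_combination ((Nat.card B : ℂ)⁻¹ * ∑ b, β b * conj (β b)) * h1 + h2

end Cfsg.Agent.Involutions.RankOne.Char
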