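import Cfsg.Agent.Lib.Involutions.RankOne.Char.Product.Split
import Cfsg.Agent.Lib.Involutions.Suzuki.CentralQuotient
import Cfsg.Agent.Lib.Involutions.RankOne.Char.Product.Basic

/-!
# Central characters of the 2-part of `Q`

`α (e x) = ω_α e · α x` for `e ∈ E`; the squares of the degrees with given `ω` add up to `|S| / q`.
For a Suzuki 2-group `S`, the linear characters are those with `ω = 1`.
-/

set_option autoImplicit false
set_option linter.unusedSectionVars false
set_option linter.style.haveILetI false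

namespace Cfsg.Agent.Involutions.RankOne.Char

open MulAction Involutions.Basic
open Cfsg.Agent.Characters
open scoped ComplexConjugate commutatorElement

universe u v

/-- The value at a central element factors out. -/
theorem char_central_mul {K : Type u} [Group K] [Finite K] {χ : K → ℂ}
    (hχ : Cfsg.IsIrrCharacter K χ) {z : K} (hz : z ∈ Subgroup.center K) (x : K) :
    χ (z * x) * χ 1 = χ z * χ x := by
  obtain ⟨d, ρ, hρ, rfl⟩ := hχ
  obtain ⟨c, hc⟩ := schur_scalar ρ (ρ z) fun g v => by
    rw [← Module.End.mul_apply, ← Module.End.mul_apply, ← map_mul, ← map_mul,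
      Subgroup.mem_center_iff.1 hz g]
  have h : ∀ y, ρ.character (z * y) = c * ρ.character y := fun y => by
    show LinearMap.trace ℂ _ (ρ (z * y)) = c * LinearMap.trace ℂ _ (ρ y)
    rw [map_mul, hc, Module.End.mul_eq_comp, LinearMap.smul_comp, LinearMap.id_comp, map_smul,
      smul_eq_mul]
  have h1 : ρ.character z = c * ρ.character 1 := by rw [← h 1, mul_one]
  rw [h x, h1]
  ring

variable {G : Type u} {Ω : Type v} [Group G] [Finite G] [MulAction G Ω] {a : Ω} {t : G}
variable {Q E S O : Subgroup G} {g : G} {n : ℕ}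

local notation "H" => MulAction.stabilizer G a
local notation "D" => (MulAction.stabilizer G a ⊓ MulAction.stabilizer G (t • a))

variable (sp : Split a Q E S O)
include sp

theorem Split.mem_center {e : G} (he : e ∈ E) :
    (⟨e, sp.E_le he⟩ : S) ∈ Subgroup.center S :=
  Subgroup.mem_center_iff.2 fun x => Subtype.ext (sp.E_central e he x x.2).eq.symm

/-- The linear character of `E` given by an irreducible character of `S`. -/
noncomputable def Split.centralChar (α : Cfsg.IrrCharacter S) : E →* ℂˣ :=
  MonoidHom.toHomUnits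
    { toFun := fun e => (α : S → ℂ) ⟨e, sp.E_le e.2⟩ / (α : S → ℂ) 1
      map_one' := div_self (irr_one_ne_zero α.2)
      map_mul' := fun e e' => by
        have h0 := irr_one_ne_zero α.2
        rw [div_mul_div_comm, ← char_central_mul α.2 (sp.mem_center e.2) ⟨e', sp.E_le e'.2⟩,
          mul_div_mul_right _ _ h0]
        rfl }

theorem Split.centralChar_apply (α : Cfsg.IrrCharacter S) (e : E) :
    (sp.centralChar α e : ℂ) = (α : S → ℂ) ⟨e, sp.E_le e.2⟩ / (α : S → ℂ) 1 := rfl

theorem Split.centralChar_spec (α : Cfsg.IrrCharacter S) (e : E) (x : S) :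
    (α : S → ℂ) (⟨e, sp.E_le e.2⟩ * x) = (sp.centralChar α e : ℂ) * (α : S → ℂ) x := by
  rw [sp.centralChar_apply, div_mul_eq_mul_div, eq_div_iff (irr_one_ne_zero α.2)]
  exact char_central_mul α.2 (sp.mem_center e.2) x

/-- Conjugate characters have conjugate central characters. -/
theorem Split.centralChar_conj {h : G} {α α' : Cfsg.IrrCharacter S}
    (hc : IsConjFun S h (α : S → ℂ) (α' : S → ℂ)) :
    IsConjFun E h ⇑(sp.centralChar α) ⇑(sp.centralChar α') := fun x y e => by
  refine Units.ext ?_
  rw [sp.centralChar_apply, sp.centralChar_apply, hc ⟨x, sp.E_le x.2⟩ ⟨y, sp.E_le y.2⟩ e,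
    hc 1 1 (by simp)]

open scoped _root_.Classical in
/-- The squares of the degrees with a given central character add up to `|S| / q`. -/
theorem Split.mass [Fintype (Cfsg.IrrCharacter S)] (ω : E →* ℂˣ) :
    (Nat.card E : ℂ) *
        ∑ α ∈ Finset.univ.filter (fun α => sp.centralChar α = ω), (α : S → ℂ) 1 ^ 2 =
      (Nat.card S : ℂ) := by
  haveI := Fintype.ofFinite E
  haveI := Fintype.ofFinite S
  have hcol : ∀ e : E, ∑ α : Cfsg.IrrCharacter S, (sp.centralChar α e : ℂ) * (α : S → ℂ) 1 ^ 2 =
      if e = 1 then (Nat.card S : ℂ) else 0 := by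
    intro e
    have h := second_orthogonality (⟨e, sp.E_le e.2⟩ : S) 1
    rw [show Subgroup.centralizer ({(1 : S)} : Set S) = ⊤ from by
      ext x; simp [Subgroup.mem_centralizer_singleton_iff], Subgroup.card_top] at h
    have hiff : IsConj (⟨e, sp.E_le e.2⟩ : S) 1 ↔ e = 1 := by
      rw [isConj_one_left]
      exact ⟨fun h => Subtype.ext (congrArg Subtype.val h :), fun h => Subtype.ext (by rw [h]; rfl)⟩
    simp only [hiff] at h
    rw [← h]
    refine Finset.sum_congr rfl fun α _ => ?_
    obtain ⟨d, -, hd⟩ := irr_one_pos α.2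
    have h1 := sp.centralChar_spec α e 1
    rw [mul_one] at h1
    rw [h1, hd, Complex.conj_natCast]
    ring
  have horth : ∀ α, ∑ e : E, (sp.centralChar α e : ℂ) * conj ((ω e : ℂ)) =
      if sp.centralChar α = ω then (Nat.card E : ℂ) else 0 := by
    intro α
    have key : Cfsg.classInner (fun e : E => (sp.centralChar α e : ℂ)) (fun e => (ω e : ℂ)) =
        if sp.centralChar α = ω then 1 else 0 := by
      split_ifs with h
      · rw [h]; exact classInner_isIrr_self (isIrrCharacter_linear ω)
      · refine classInner_isIrr_ne (isIrrCharacter_linear _) (isIrrCharacter_linear ω) fun e => h ?_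
        exact MonoidHom.ext fun x => Units.ext (congrFun e x)
    rw [classInner_def, inv_mul_eq_iff_eq_mul₀ natCard_ne_zero] at key
    rw [key]
    split_ifs <;> simp
  have h : ∑ e : E, conj ((ω e : ℂ)) *
      ∑ α : Cfsg.IrrCharacter S, (sp.centralChar α e : ℂ) * (α : S → ℂ) 1 ^ 2 = (Nat.card S : ℂ) := by
    simp only [hcol, mul_ite, mul_zero, Finset.sum_ite_eq', Finset.mem_univ, if_true]
    simp
  rw [← h, Finset.mul_sum, Finset.sum_filter]
  simp only [Finset.mul_sum]
  rw [Finset.sum_comm]
  refine Finset.sum_congr rfl fun α _ => ?_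
  rw [show (∑ e : E, conj ((ω e : ℂ)) * ((sp.centralChar α e : ℂ) * (α : S → ℂ) 1 ^ 2)) =
      (∑ e : E, (sp.centralChar α e : ℂ) * conj ((ω e : ℂ))) * (α : S → ℂ) 1 ^ 2 from by
    rw [Finset.sum_mul]; exact Finset.sum_congr rfl fun e _ => by ring, horth]
  split_ifs <;> simp

section Suzuki

variable (hS : Cfsg.IsRankOneSetup G Ω a t Q) (F : Frame a t Q E g n)
variable (hP : Cfsg.IsSuzukiTwoGroup S)

include hS F hP

theorem Split.center_eq : Subgroup.center S = E.subgroupOf S := by
  obtain ⟨K, hK⟩ := Cfsg.Agent.Involutions.Suzuki.regular_of_isSuzuki hP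
  refine le_antisymm (fun x hx => ?_) fun x hx => sp.mem_center (e := (x : G)) hx
  rw [Subgroup.mem_subgroupOf, F.mem_E]
  by_cases h : (x : G) = 1
  · exact Or.inl h
  · exact Or.inr ⟨hS.le (sp.le_S x.2), h, congrArg Subtype.val
      (Cfsg.Agent.Involutions.Suzuki.center_sq hK hP.2.1 hP.2.2.1 hx)⟩

theorem Split.card_center : Nat.card (Subgroup.center S) = 2 ^ n := by
  rw [sp.center_eq hS F hP, Nat.card_congr (Subgroup.subgroupOfEquivOfLe sp.E_le).toEquiv, F.card_E]

/-- The derived group of `S` is its centre. -/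
theorem Split.commutator_eq : commutator S = Subgroup.center S := by
  obtain ⟨-, hc, -, -⟩ := Cfsg.Agent.Involutions.Suzuki.central_quotient hP
  have hle : commutator S ≤ Subgroup.center S := by
    rw [commutator_eq_closure, Subgroup.closure_le]
    rintro x ⟨g₁, g₂, rfl⟩
    have := hc g₁⁻¹ g₂⁻¹
    rw [inv_inv, inv_inv] at this
    exact this
  refine le_antisymm hle fun z hz => ?_
  by_cases hz1 : z = 1
  · rw [hz1]; exact one_mem _
  obtain ⟨x, y, hxy⟩ := hP.2.2.1
  have hcm : ⁅x, y⁆ ∈ commutator S := Subgroup.commutator_mem_commutator (Subgroup.mem_top x) (Subgroup.mem_top y)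
  have hc1 : ⁅x, y⁆ ≠ 1 := fun e => hxy (commutatorElement_eq_one_iff_mul_comm.1 e)
  have hE : ∀ w : S, w ∈ Subgroup.center S → (w : G) ∈ E := fun w hw => by
    rw [sp.center_eq hS F hP] at hw; exact hw
  obtain ⟨k, hk, hkz⟩ := F.move _ (hE _ (hle hcm)) (fun e => hc1 (Subtype.ext e)) _ (hE z hz)
    (fun e => hz1 (Subtype.ext e))
  have hch : (commutator S).Characteristic := inferInstance
  have h1 := Subgroup.characteristic_iff_map_eq.1 hch
    (conjEquiv S k fun w hw => sp.conj_S k (F.zpowers_le_D hk).1 w hw)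
  rw [show z = conjEquiv S k (fun w hw => sp.conj_S k (F.zpowers_le_D hk).1 w hw) ⁅x, y⁆ from
    Subtype.ext hkz.symm]
  exact h1.le ⟨_, hcm, rfl⟩

/-- The linear characters are those with trivial central character. -/
theorem Split.centralChar_eq_one_iff (α : Cfsg.IrrCharacter S) :
    sp.centralChar α = 1 ↔ (α : S → ℂ) 1 = 1 := by
  constructor
  · intro h
    have hker : ∀ x ∈ Subgroup.center S, (α : S → ℂ) x = (α : S → ℂ) 1 := fun x hx => by
      rw [sp.center_eq hS F hP] at hx
      have h1 := sp.centralChar_spec α ⟨x, hx⟩ 1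
      rwa [h, mul_one, MonoidHom.one_apply, Units.val_one, one_mul] at h1
    obtain ⟨ψ, -, hψ, hirr⟩ := exists_deflate_quotient (Subgroup.center S) (irr_isCharacter α) hker
    rw [← hψ 1]
    refine irr_degree_one_of_comm (G := S ⧸ Subgroup.center S) (fun u v => ?_) (hirr α.2)
    obtain ⟨x, rfl⟩ := QuotientGroup.mk_surjective u
    obtain ⟨y, rfl⟩ := QuotientGroup.mk_surjective v
    rw [← QuotientGroup.mk_mul, ← QuotientGroup.mk_mul, QuotientGroup.eq]
    have := (Cfsg.Agent.Involutions.Suzuki.central_quotient hP).2.1 y x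
    convert this using 1
    group
  · intro h1
    refine MonoidHom.ext fun e => Units.ext ?_
    rw [sp.centralChar_apply, h1, div_one, MonoidHom.one_apply, Units.val_one]
    have hmem : (⟨e, sp.E_le e.2⟩ : S) ∈ commutator S := by
      rw [sp.commutator_eq hS F hP]; exact sp.mem_center e.2
    have hker := Abelianization.commutator_subset_ker (linearOfDegreeOne (irr_isCharacter α) h1) hmem
    exact congrArg Units.val (MonoidHom.mem_ker.1 hker)

/-- The index of the centre is `q` or `q ^ 2`. -/
theorem Split.index_center :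
    (Subgroup.center S).index = 2 ^ n ∨ (Subgroup.center S).index = (2 ^ n) ^ 2 := by
  obtain ⟨-, -, hcard, -⟩ := Cfsg.Agent.Involutions.Suzuki.central_quotient hP
  have h := (Subgroup.center S).card_mul_index
  rw [sp.card_center hS F hP] at h hcard
  have hpos : 0 < 2 ^ n := Nat.two_pow_pos n
  rcases hcard with e | e <;> rw [e] at h
  · exact Or.inl (Nat.eq_of_mul_eq_mul_left hpos (h.trans (sq _)))
  · exact Or.inr (Nat.eq_of_mul_eq_mul_left hpos (h.trans (by ring)))

/-- The number of linear characters. -/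
theorem Split.card_linear : Nat.card (S →* ℂˣ) = (Subgroup.center S).index := by
  rw [card_linear_hom, sp.commutator_eq hS F hP]

/-- Degrees are powers of two with square at most the index of the centre. -/
theorem Split.degree_eq (α : Cfsg.IrrCharacter S) :
    ∃ j : ℕ, (α : S → ℂ) 1 = ((2 ^ j : ℕ) : ℂ) ∧ (2 ^ j) ^ 2 ≤ (Subgroup.center S).index := by
  haveI : Fact (Nat.Prime 2) := ⟨Nat.prime_two⟩
  obtain ⟨d, hd, -, hdvd⟩ := irr_degree_dvd_card α.2
  obtain ⟨m, hm⟩ := IsPGroup.iff_card.1 sp.two_group
  rw [hm] at hdvd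
  obtain ⟨j, -, rfl⟩ := (Nat.dvd_prime_pow Nat.prime_two).1 hdvd
  exact ⟨j, hd, sq_degree_le_center_index α.2 hd⟩

end Suzuki

end Cfsg.Agent.Involutions.RankOne.Char
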