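import Cfsg.Agent.Lib.Involutions.RankOne.Char.Local
import Cfsg.Agent.Lib.Characters.Counting
import Cfsg.Agent.Lib.Characters.Kernel
import Cfsg.Agent.Lib.CharTheory.RealPPrime.OddIndex
import Cfsg.Agent.Lib.CN.Basic

/-!
# Conjugation of functions on a subgroup

`IsConjFun X h θ θ'`: the value of `θ` at `h x h⁻¹` is that of `θ'` at `x`.  An element of prime order fixing a
non-trivial irreducible character centralises a non-identity element; an element of odd order does not send
a non-trivial irreducible character of a group of odd order to its conjugate.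
-/

set_option autoImplicit false
set_option linter.unusedSectionVars false
set_option linter.style.haveILetI false

namespace Cfsg.Agent.Involutions.RankOne.Char

open Cfsg.Agent.Characters
open scoped ComplexConjugate

universe u

variable {G : Type u} [Group G]

/-- `θ'` is the conjugate of `θ` by `h`. -/
def IsConjFun {M : Type*} (X : Subgroup G) (h : G) (θ θ' : X → M) : Prop :=
  ∀ x y : X, (y : G) = h * x * h⁻¹ → θ y = θ' x

variable {X : Subgroup G} {h k : G}

theorem fixedBy_iff {M : Type*} [Group M] (f : X →* M) : FixedBy X h f ↔ IsConjFun X h ⇑f ⇑f :=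
  Iff.rfl

theorem IsConjFun.one {M : Type*} (θ : X → M) : IsConjFun X 1 θ θ := fun x y e => by
  rw [show y = x from Subtype.ext (by simpa using e)]

theorem IsConjFun.unique {M : Type*} (hX : ∀ x ∈ X, h * x * h⁻¹ ∈ X) {θ θ₁ θ₂ : X → M}
    (h1 : IsConjFun X h θ θ₁) (h2 : IsConjFun X h θ θ₂) : θ₁ = θ₂ :=
  funext fun x => (h1 x ⟨_, hX x x.2⟩ rfl).symm.trans (h2 x ⟨_, hX x x.2⟩ rfl)

theorem IsConjFun.symm {M : Type*} {θ θ' : X → M} (h1 : IsConjFun X h θ θ') :
    IsConjFun X h⁻¹ θ' θ := fun x y e => by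
  refine (h1 y x ?_).symm
  rw [e]; group

theorem IsConjFun.trans {M : Type*} (hX : ∀ x ∈ X, k * x * k⁻¹ ∈ X) {θ θ' θ'' : X → M}
    (h1 : IsConjFun X h θ θ') (h2 : IsConjFun X k θ' θ'') : IsConjFun X (h * k) θ θ'' := fun x y e => by
  rw [h1 ⟨_, hX x x.2⟩ y (by rw [e]; group)]
  exact h2 x _ rfl

theorem conj_mem_pow (hX : ∀ x ∈ X, h * x * h⁻¹ ∈ X) : ∀ (i : ℕ), ∀ x ∈ X, h ^ i * x * (h ^ i)⁻¹ ∈ X := by
  intro i
  induction i with
  | zero => intro x hx; simpa using hx
  | succ i ih =>
    intro x hx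
    rw [show h ^ (i + 1) * x * (h ^ (i + 1))⁻¹ = h ^ i * (h * x * h⁻¹) * (h ^ i)⁻¹ by group]
    exact ih _ (hX x hx)

theorem IsConjFun.pow {M : Type*} (hX : ∀ x ∈ X, h * x * h⁻¹ ∈ X) {θ : X → M}
    (h1 : IsConjFun X h θ θ) : ∀ i : ℕ, IsConjFun X (h ^ i) θ θ := by
  intro i
  induction i with
  | zero => rw [pow_zero]; exact IsConjFun.one θ
  | succ i ih => rw [pow_succ]; exact ih.trans hX h1

theorem IsConjFun.conj {θ θ' : X → ℂ} (h1 : IsConjFun X h θ θ') :
    IsConjFun X h (fun x => conj (θ x)) (fun x => conj (θ' x)) :=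
  fun x y e => congrArg conj (h1 x y e)

variable [Finite G]

/-- Conjugation by `h`, on an invariant subgroup. -/
noncomputable def conjEquiv (X : Subgroup G) (h : G) (hX : ∀ x ∈ X, h * x * h⁻¹ ∈ X) : X ≃* X :=
  MulEquiv.ofBijective (conjHom X h hX) (Finite.injective_iff_bijective.1 fun x y e =>
    Subtype.ext (mul_left_cancel (mul_right_cancel (congrArg Subtype.val e))))

theorem exists_isConjFun (hX : ∀ x ∈ X, h * x * h⁻¹ ∈ X) (θ : Cfsg.IrrCharacter X) :
    ∃ θ' : Cfsg.IrrCharacter X, IsConjFun X h (θ : X → ℂ) (θ' : X → ℂ) :=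
  ⟨⟨(θ : X → ℂ) ∘ conjEquiv X h hX, (isIrrCharacter_comp_mulEquiv _).2 θ.2⟩, fun x y e =>
    congrArg (θ : X → ℂ) (Subtype.ext e)⟩

/-- An automorphism fixing a non-trivial irreducible character sends a non-trivial element to a
conjugate of itself. -/
theorem exists_isConj_of_fixed {K : Type u} [Group K] [Finite K] (α : K ≃* K) {θ : K → ℂ}
    (hθ : Cfsg.IsIrrCharacter K θ) (hθ1 : θ ≠ fun _ => 1) (hfix : θ ∘ α = θ) :
    ∃ k : K, k ≠ 1 ∧ IsConj (α k) k := by
  classical
  haveI := Fintype.ofFinite K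
  haveI := Fintype.ofFinite (Cfsg.IrrCharacter K)
  by_contra hcon
  push Not at hcon
  have hsum : ∑ χ : Cfsg.IrrCharacter K,
      Cfsg.classInner (irrAutEquiv α χ : K → ℂ) (χ : K → ℂ) = 1 := by
    simp only [classInner_def]
    rw [← Finset.mul_sum, Finset.sum_comm, inv_mul_eq_one₀ natCard_ne_zero,
      Finset.sum_eq_single (1 : K)]
    · rw [show (∑ χ : Cfsg.IrrCharacter K, (irrAutEquiv α χ : K → ℂ) 1 * conj ((χ : K → ℂ) 1)) =
          ∑ χ : Cfsg.IrrCharacter K, (χ : K → ℂ) 1 * conj ((χ : K → ℂ) 1) from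
          Finset.sum_congr rfl fun χ _ => by simp [irrAutEquiv],
        second_orthogonality, if_pos (IsConj.refl _),
        show Subgroup.centralizer ({(1 : K)} : Set K) = ⊤ from by
          ext x; simp [Subgroup.mem_centralizer_singleton_iff], Subgroup.card_top]
    · intro k _ hk
      simp only [irrAutEquiv, Equiv.coe_fn_mk, Function.comp_apply]
      rw [second_orthogonality, if_neg (hcon k hk)]
    · simp
  simp only [classInner_irr] at hsum
  rw [Finset.sum_boole, Nat.cast_eq_one] at hsum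
  have h2 : 2 ≤ (Finset.univ.filter fun χ : Cfsg.IrrCharacter K =>
      irrAutEquiv α χ = χ).card :=
    Finset.one_lt_card.2 ⟨⟨θ, hθ⟩, Finset.mem_filter.2 ⟨Finset.mem_univ _, Subtype.ext hfix⟩,
      trivIrr K, Finset.mem_filter.2 ⟨Finset.mem_univ _, Subtype.ext rfl⟩,
      fun e => hθ1 (congrArg Subtype.val e)⟩
  omega

/-- An element of prime order normalising a nilpotent group and fixing a non-trivial irreducible
character centralises a non-identity element. -/
theorem exists_commute_of_fixed (hN : Group.IsNilpotent X) {d : G} (hp : (orderOf d).Prime)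
    (hX : ∀ x ∈ X, d * x * d⁻¹ ∈ X) {θ : X → ℂ} (hθ : Cfsg.IsIrrCharacter X θ)
    (hθ1 : θ ≠ fun _ => 1) (hfix : IsConjFun X d θ θ) :
    ∃ x ∈ X, x ≠ 1 ∧ Commute x d := by
  classical
  haveI : Fact (orderOf d).Prime := ⟨hp⟩
  set p := orderOf d with hpd
  have hpg : IsPGroup p (Subgroup.zpowers d) := IsPGroup.of_card (n := 1)
    (by rw [Nat.card_zpowers, pow_one])
  have hdz : ∀ w ∈ Subgroup.zpowers d, ∀ x ∈ X, w * x * w⁻¹ ∈ X := by
    intro w hw
    obtain ⟨i, rfl⟩ := Submonoid.mem_powers_iff _ _ |>.mp (mem_powers_iff_mem_zpowers.mpr hw)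
    exact conj_mem_pow hX i
  by_cases hdiv : p ∣ Nat.card X
  · obtain ⟨P⟩ : Nonempty (Sylow p X) := inferInstance
    haveI : (P : Subgroup X).Normal := inferInstance
    haveI : Unique (Sylow p X) := Sylow.unique_of_normal P inferInstance
    have hinv : ∀ w ∈ Subgroup.zpowers d, ∀ x : G, x ∈ (P : Subgroup X).map X.subtype →
        w * x * w⁻¹ ∈ (P : Subgroup X).map X.subtype := by
      rintro w hw x ⟨y, hy, rfl⟩
      have hch : (P : Subgroup X).Characteristic := P.characteristic_of_normal inferInstance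
      have h1 := Subgroup.characteristic_iff_map_eq.1 hch (conjEquiv X w (hdz w hw))
      exact ⟨_, h1.le ⟨y, hy, rfl⟩, rfl⟩
    set P' := (P : Subgroup X).map X.subtype
    letI : MulAction (Subgroup.zpowers d) P' :=
      { smul := fun w x => ⟨(w : G) * x * (w : G)⁻¹, hinv w w.2 x x.2⟩
        one_smul := fun x => Subtype.ext (show (1 : G) * x * (1 : G)⁻¹ = x by group)
        mul_smul := fun v w x => Subtype.ext
          (show (v : G) * w * x * ((v : G) * w)⁻¹ = v * (w * x * (w : G)⁻¹) * (v : G)⁻¹ by group) }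
    have hP' : p ∣ Nat.card P' := by
      rw [Subgroup.card_map_of_injective X.subtype_injective, P.card_eq_multiplicity]
      exact dvd_pow_self p ((Nat.Prime.factorization_pos_of_dvd hp Nat.card_pos.ne' hdiv).ne')
    obtain ⟨x, hx, hx1⟩ := hpg.exists_fixed_point_of_prime_dvd_card_of_fixed_point P' hP'
      (a := (1 : P')) (fun w => Subtype.ext (show (w : G) * 1 * (w : G)⁻¹ = 1 by group))
    obtain ⟨x', -, hx'⟩ := x.2
    refine ⟨x, hx' ▸ x'.2, fun e => hx1 (Subtype.ext e.symm), ?_⟩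
    have := congrArg Subtype.val (hx ⟨d, Subgroup.mem_zpowers d⟩)
    exact (mul_inv_eq_iff_eq_mul.1 this).symm
  · obtain ⟨k, hk1, hk⟩ := exists_isConj_of_fixed (conjEquiv X d hX) hθ hθ1
      (funext fun x => hfix x _ rfl)
    set C : Set X := ConjClasses.carrier (ConjClasses.mk k)
    have hC : ∀ y : X, y ∈ C ↔ IsConj k y := fun y =>
      ConjClasses.mem_carrier_iff_mk_eq.trans (eq_comm.trans ConjClasses.mk_eq_mk_iff_isConj)
    have hone : ∀ y ∈ C, conjEquiv X d hX y ∈ C := fun y hy =>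
      (hC _).2 (hk.symm.trans ((conjEquiv X d hX).toMonoidHom.map_isConj ((hC y).1 hy)))
    have hinv : ∀ w ∈ Subgroup.zpowers d, ∀ y : X, y ∈ C → ∀ z : X, (z : G) = w * y * w⁻¹ → z ∈ C := by
      intro w hw
      obtain ⟨i, rfl⟩ := Submonoid.mem_powers_iff _ _ |>.mp (mem_powers_iff_mem_zpowers.mpr hw)
      induction i with
      | zero =>
        intro y hy z hz
        rwa [show z = y from Subtype.ext (by simpa using hz)]
      | succ i ih =>
        intro y hy z hz
        exact ih (pow_mem (Subgroup.mem_zpowers d) i) _ (hone y hy) z (by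
          rw [hz]
          show _ = d ^ i * (d * y * d⁻¹) * (d ^ i)⁻¹
          group)
    letI : MulAction (Subgroup.zpowers d) C :=
      { smul := fun w y => ⟨⟨(w : G) * (y : X) * (w : G)⁻¹, hdz w w.2 _ (y : X).2⟩,
          hinv w w.2 _ y.2 _ rfl⟩
        one_smul := fun x => Subtype.ext (Subtype.ext
          (show (1 : G) * (x : X) * (1 : G)⁻¹ = (x : X) by group))
        mul_smul := fun v w x => Subtype.ext (Subtype.ext
          (show (v : G) * w * (x : X) * ((v : G) * w)⁻¹ =
            v * (w * (x : X) * (w : G)⁻¹) * (v : G)⁻¹ by group)) }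
    have hnd : ¬ p ∣ Nat.card C := fun h => hdiv (h.trans
      ⟨_, (Cfsg.Agent.Characters.card_carrier_mul_card_centralizer k).symm⟩)
    obtain ⟨y, hy⟩ := hpg.nonempty_fixed_point_of_prime_not_dvd_card C hnd
    refine ⟨(y : X), (y : X).2, fun e => hk1 ?_, ?_⟩
    · have h1 : (y : X) = 1 := Subtype.ext e
      have h2 := (hC _).1 y.2
      rw [h1] at h2
      exact isConj_one_left.1 h2
    · have := congrArg (fun z : C => ((z : X) : G)) (hy ⟨d, Subgroup.mem_zpowers d⟩)
      exact (mul_inv_eq_iff_eq_mul.1 this).symm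

/-- A group of odd order has no non-trivial real irreducible character. -/
theorem eq_one_of_real {K : Type u} [Group K] [Finite K] (hodd : Odd (Nat.card K)) {θ : K → ℂ}
    (hθ : Cfsg.IsIrrCharacter K θ) (hr : ∀ x, conj (θ x) = θ x) : θ = fun _ => 1 := by
  classical
  haveI := Fintype.ofFinite (⊥ : Subgroup K)
  obtain ⟨χ₀, -, huniq⟩ := CharTheory.RealPPrime.exists_unique_real_over (⊥ : Subgroup K)
    (by rwa [Subgroup.index_bot]) (isIrrCharacter_one (G := (⊥ : Subgroup K))) (fun _ => by simp)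
  have hne : ∀ χ : Cfsg.IrrCharacter K,
      Cfsg.classInner (fun n : (⊥ : Subgroup K) => (χ : K → ℂ) n) (fun _ => 1) ≠ 0 := by
    intro χ
    rw [classInner_def]
    rw [Fintype.sum_eq_single (1 : (⊥ : Subgroup K)) (fun x hx => absurd (Subtype.ext (Subgroup.mem_bot.1 x.2)) hx)]
    simp [irr_one_ne_zero χ.2]
  have h1 := huniq ⟨θ, hθ⟩ ((CharTheory.RealPPrime.isRealF_iff_conj θ).2 hr) (hne _)
  have h2 := huniq (trivIrr K) (fun _ => by simp) (hne _)
  exact congrArg Subtype.val (h1.trans h2.symm)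

/-- An element of odd order does not send a non-trivial irreducible character of a group of odd order to
its conjugate. -/
theorem not_isConjFun_conj (hodd : Odd (Nat.card X)) {d : G} (hd : Odd (orderOf d))
    (hX : ∀ x ∈ X, d * x * d⁻¹ ∈ X) {θ : X → ℂ} (hθ : Cfsg.IsIrrCharacter X θ)
    (hθ1 : θ ≠ fun _ => 1) : ¬ IsConjFun X d θ fun x => conj (θ x) := by
  intro h1
  have h2 : IsConjFun X (d * d) θ θ := by
    have := h1.trans hX h1.conj
    simpa using this
  have hX2 : ∀ x ∈ X, d * d * x * (d * d)⁻¹ ∈ X := fun x hx => by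
    rw [← sq]; exact conj_mem_pow hX 2 x hx
  obtain ⟨r, hr⟩ := hd
  have h3 := (h2.pow hX2 r).trans hX h1
  rw [← sq, ← pow_mul, ← pow_succ, ← hr, pow_orderOf_eq_one] at h3
  exact hθ1 (eq_one_of_real hodd hθ fun x => (h3 x x (by simp)).symm)

end Cfsg.Agent.Involutions.RankOne.Char
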