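import Cfsg.Agent.Lib.Involutions.RankOne.Char.Product.Conj
import Cfsg.Agent.Lib.Involutions.SylowPSUThree

/-!
# `Q` is the direct product of a 2-group and a group of odd order
-/

set_option autoImplicit false
set_option linter.unusedSectionVars false
set_option linter.style.haveILetI false

namespace Cfsg.Agent.Involutions.RankOne.Char

open MulAction Involutions.Basic

universe u v

variable {G : Type u} {Ω : Type v} [Group G] [MulAction G Ω] {a : Ω} {t : G}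
variable {Q E S O : Subgroup G} {g : G} {n : ℕ}

local notation "H" => MulAction.stabilizer G a
local notation "D" => (MulAction.stabilizer G a ⊓ MulAction.stabilizer G (t • a))

/-- `Q = S × O`. -/
structure Split (a : Ω) (Q E S O : Subgroup G) : Prop where
  le_S : S ≤ Q
  le_O : O ≤ Q
  E_le : E ≤ S
  E_central : ∀ e ∈ E, ∀ x ∈ S, Commute e x
  comm : ∀ x ∈ S, ∀ y ∈ O, Commute x y
  inf_eq : S ⊓ O = ⊥
  exists_mul : ∀ q ∈ Q, ∃ x ∈ S, ∃ y ∈ O, q = x * y
  two_group : IsPGroup 2 S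
  odd_O : Odd (Nat.card O)
  card_Q : Nat.card Q = Nat.card S * Nat.card O
  conj_S : ∀ h ∈ MulAction.stabilizer G a, ∀ x ∈ S, h * x * h⁻¹ ∈ S
  conj_O : ∀ h ∈ MulAction.stabilizer G a, ∀ x ∈ O, h * x * h⁻¹ ∈ O

variable [Finite G] (hS : Cfsg.IsRankOneSetup G Ω a t Q)
  (h2 : ∃ x y : G, x ≠ 1 ∧ y ≠ 1 ∧ x ≠ y ∧ x * x = 1 ∧ y * y = 1 ∧ x * y = y * x)

theorem Frame.E_two (F : Frame a t Q E g n) : IsPGroup 2 E := IsPGroup.of_card F.card_E

include hS h2 in
/-- The splitting exists. -/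
theorem exists_split (F : Frame a t Q E g n) : ∃ S O, Split a Q E S O := by
  classical
  haveI : Fact (Nat.Prime 2) := ⟨Nat.prime_two⟩
  haveI := isNilpotent_Q hS h2
  obtain ⟨P⟩ : Nonempty (Sylow 2 Q) := inferInstance
  haveI hPn : (P : Subgroup Q).Normal := inferInstance
  obtain ⟨C, hC⟩ := Subgroup.exists_right_complement'_of_coprime
    (N := (P : Subgroup Q)) P.card_coprime_index
  have hcard := hC.card_mul
  have hoddC : Odd (Nat.card C) := by
    rw [← hC.symm.index_eq_card, Nat.odd_iff, ← Nat.two_dvd_ne_zero]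
    exact P.not_dvd_index
  have hPord : ∀ x ∈ (P : Subgroup Q), ∀ y ∈ C, (orderOf x).Coprime (orderOf y) := fun x hx y hy => by
    obtain ⟨j, hj⟩ := IsPGroup.iff_orderOf.1 P.2 ⟨x, hx⟩
    rw [Subgroup.orderOf_mk] at hj
    rw [hj]
    exact Nat.Coprime.pow_left _ (Nat.coprime_two_left.2
      (hoddC.of_dvd_nat (Subgroup.orderOf_dvd_natCard C hy)))
  have hcomm : ∀ x ∈ (P : Subgroup Q), ∀ y ∈ C, Commute x y := fun x hx y hy =>
    CN.commute_of_coprime_group x y (hPord x hx y hy)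
  have hdec : ∀ q : Q, ∃ x ∈ (P : Subgroup Q), ∃ y ∈ C, q = x * y := fun q => by
    obtain ⟨⟨x, y⟩, h⟩ := hC.2 q
    exact ⟨x, x.2, y, y.2, h.symm⟩
  -- the two factors are the elements of 2-power order and those of odd order
  have hCiff : ∀ q : Q, q ∈ C ↔ Odd (orderOf q) := fun q => by
    refine ⟨fun hq => hoddC.of_dvd_nat (Subgroup.orderOf_dvd_natCard C hq), fun ho => ?_⟩
    obtain ⟨x, hx, y, hy, rfl⟩ := hdec q
    rw [(hcomm x hx y hy).orderOf_mul_eq_mul_orderOf_of_coprime (hPord x hx y hy)] at ho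
    obtain ⟨j, hj⟩ := IsPGroup.iff_orderOf.1 P.2 ⟨x, hx⟩
    rw [Subgroup.orderOf_mk] at hj
    have h1 : Odd (2 ^ j) := hj ▸ (Nat.odd_mul.1 ho).1
    have h0 : j = 0 := by
      by_contra hne
      exact Nat.not_even_iff_odd.2 h1 (Nat.even_pow.2 ⟨even_two, hne⟩)
    rw [h0, pow_zero, orderOf_eq_one_iff] at hj
    rw [hj, one_mul]
    exact hy
  have hPiff : ∀ q : Q, q ∈ (P : Subgroup Q) ↔ ∃ j : ℕ, orderOf q = 2 ^ j := fun q => by
    refine ⟨fun hq => ?_, fun ⟨j, hj⟩ => ?_⟩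
    · obtain ⟨j, hj⟩ := IsPGroup.iff_orderOf.1 P.2 ⟨q, hq⟩
      exact ⟨j, by rw [← hj]; exact Subgroup.orderOf_coe (⟨q, hq⟩ : (P : Subgroup Q))⟩
    · obtain ⟨x, hx, y, hy, rfl⟩ := hdec q
      rw [(hcomm x hx y hy).orderOf_mul_eq_mul_orderOf_of_coprime (hPord x hx y hy)] at hj
      have h1 : orderOf y ∣ 2 ^ j := hj ▸ dvd_mul_left _ _
      have h2' : (orderOf y).Coprime (2 ^ j) := Nat.Coprime.pow_right _
        (Nat.coprime_two_left.2 (hoddC.of_dvd_nat (Subgroup.orderOf_dvd_natCard C hy))).symm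
      rw [orderOf_eq_one_iff.1 (Nat.eq_one_of_dvd_coprimes h2' dvd_rfl h1), mul_one]
      exact hx
  refine ⟨(P : Subgroup Q).map Q.subtype, C.map Q.subtype, ?_⟩
  constructor
  · exact Subgroup.map_subtype_le _
  · exact Subgroup.map_subtype_le _
  · intro x hx
    refine ⟨⟨x, F.E_le hx⟩, (hPiff _).2 ?_, rfl⟩
    obtain ⟨j, hj⟩ := IsPGroup.iff_orderOf.1 F.E_two ⟨x, hx⟩
    exact ⟨j, by rw [← hj, Subgroup.orderOf_mk, Subgroup.orderOf_mk]⟩
  · rintro e he _ ⟨x, -, rfl⟩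
    exact F.E_comm e he x x.2
  · rintro _ ⟨x, hx, rfl⟩ _ ⟨y, hy, rfl⟩
    exact (hcomm x hx y hy).map Q.subtype
  · rw [← Subgroup.map_inf _ _ _ Q.subtype_injective, disjoint_iff.1 hC.disjoint, Subgroup.map_bot]
  · intro q hq
    obtain ⟨x, hx, y, hy, e⟩ := hdec ⟨q, hq⟩
    exact ⟨x, ⟨x, hx, rfl⟩, y, ⟨y, hy, rfl⟩, congrArg Subtype.val e⟩
  · exact P.2.map _
  · rwa [Subgroup.card_map_of_injective Q.subtype_injective]
  · rw [Subgroup.card_map_of_injective Q.subtype_injective,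
      Subgroup.card_map_of_injective Q.subtype_injective, hcard]
  · rintro h hh _ ⟨x, hx, rfl⟩
    refine ⟨⟨_, hS.conj_mem h hh x x.2⟩, (hPiff _).2 ?_, rfl⟩
    obtain ⟨j, hj⟩ := (hPiff x).1 hx
    exact ⟨j, by rw [← hj, Subgroup.orderOf_mk, orderOf_conj, Subgroup.orderOf_coe]⟩
  · rintro h hh _ ⟨x, hx, rfl⟩
    refine ⟨⟨_, hS.conj_mem h hh x x.2⟩, (hCiff _).2 ?_, rfl⟩
    rw [Subgroup.orderOf_mk, orderOf_conj, Subgroup.orderOf_coe]
    exact (hCiff x).1 hx

variable (sp : Split a Q E S O)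
include sp

include hS h2 in
theorem Split.nilpotent_O : Group.IsNilpotent O := by
  haveI := isNilpotent_Q hS h2
  exact Group.nilpotent_of_mulEquiv (Subgroup.subgroupOfEquivOfLe sp.le_O)

include hS h2 in
/-- `S` is abelian or a Suzuki 2-group. -/
theorem Split.abelian_or_suzuki : IsMulCommutative S ∨ Cfsg.IsSuzukiTwoGroup S := by
  haveI : Fact (Nat.Prime 2) := ⟨Nat.prime_two⟩
  have hodd : ¬ 2 ∣ (S.subgroupOf Q).index := by
    have h1 := (S.subgroupOf Q).card_mul_index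
    rw [Nat.card_congr (Subgroup.subgroupOfEquivOfLe sp.le_S).toEquiv, sp.card_Q] at h1
    rw [Nat.eq_of_mul_eq_mul_left Nat.card_pos h1, Nat.two_dvd_ne_zero, ← Nat.odd_iff]
    exact sp.odd_O
  have hp : IsPGroup 2 (S.subgroupOf Q) :=
    sp.two_group.of_equiv (Subgroup.subgroupOfEquivOfLe sp.le_S).symm
  set P : Sylow 2 Q := hp.toSylow hodd
  rcases sylow_two_abelian_or_suzuki hS h2 (Cfsg.Agent.S0205.result hS.odd_card) P with h | h
  · refine Or.inl ⟨⟨fun x y => Subtype.ext ?_⟩⟩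
    have h1 := h.is_comm.comm (⟨⟨x, sp.le_S x.2⟩, x.2⟩ : (P : Subgroup Q)) ⟨⟨y, sp.le_S y.2⟩, y.2⟩
    exact congrArg (fun z : (P : Subgroup Q) => ((z : Q) : G)) h1
  · exact Or.inr (SylowPSUThree.isSuzukiTwoGroup_congr
      (Subgroup.subgroupOfEquivOfLe sp.le_S) h)

/-- `O` is trivial or has at least `2q - 1` elements. -/
theorem Split.card_O_bound (F : Frame a t Q E g n) (hO : O ≠ ⊥) :
    2 * 2 ^ n - 1 ≤ Nat.card O := by
  classical
  have hinv : ∀ w ∈ Subgroup.zpowers g, ∀ x ∈ O, w * x * w⁻¹ ∈ O := fun w hw x hx =>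
    sp.conj_O w (F.zpowers_le_D hw).1 x hx
  have hne : ∀ (w : G) (hw : w ∈ Subgroup.zpowers g) (x : O), x ≠ 1 →
      (⟨w * x * w⁻¹, hinv w hw x x.2⟩ : O) ≠ 1 := fun w hw x hx e => hx (Subtype.ext
    (conj_eq_one_iff.1 (congrArg Subtype.val e)))
  let A := {x : O // x ≠ 1}
  letI : MulAction (Subgroup.zpowers g) A :=
    { smul := fun w x => ⟨⟨(w : G) * x.1 * (w : G)⁻¹, hinv w w.2 _ x.1.2⟩, hne w w.2 x.1 x.2⟩
      one_smul := fun x => Subtype.ext (Subtype.ext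
        (show (1 : G) * x.1 * (1 : G)⁻¹ = x.1 by group))
      mul_smul := fun v w x => Subtype.ext (Subtype.ext
        (show (v : G) * w * x.1 * ((v : G) * w)⁻¹ = v * (w * x.1 * (w : G)⁻¹) * (v : G)⁻¹ by group)) }
  have hfree : ∀ x : A, MulAction.stabilizer (Subgroup.zpowers g) x = ⊥ := fun x => by
    refine (Subgroup.eq_bot_iff_forall _).2 fun w hstab => ?_
    by_contra hw1
    refine x.2 (Subtype.ext (F.fpf w w.2 (fun e => hw1 (Subtype.ext e)) x.1 (sp.le_O x.1.2) ?_))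
    exact (mul_inv_eq_iff_eq_mul.1 (congrArg (fun z : A => (z.1 : G)) hstab)).symm
  have h1 : Nat.card (Subgroup.zpowers g) ∣ Nat.card A := by
    rw [Nat.card_congr (MulAction.selfEquivOrbitsQuotientProd hfree), Nat.card_prod]
    exact dvd_mul_left _ _
  have hA : Nat.card O = Nat.card A + 1 := by
    rw [← Finite.card_option]
    exact Nat.card_congr (Equiv.optionSubtypeNe (1 : O)).symm
  rw [Nat.card_zpowers, F.orderOf_g] at h1
  have hq : Even (2 ^ n) := Nat.even_pow.2 ⟨even_two, by have := F.two_le; omega⟩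
  have h4 := F.three_le_q
  have hoddA : Even (Nat.card A) := by
    obtain ⟨r, hr⟩ := sp.odd_O
    exact ⟨r, by omega⟩
  have hA0 : Nat.card A ≠ 0 := by
    intro h0
    exact hO (Subgroup.card_eq_one.1 (by omega))
  have h3 : 2 * (2 ^ n - 1) ∣ Nat.card A := Nat.Coprime.mul_dvd_of_dvd_of_dvd (by
    rw [Nat.coprime_two_left, Nat.odd_iff]
    obtain ⟨r, hr⟩ := hq
    omega) (even_iff_two_dvd.1 hoddA) h1
  have := Nat.le_of_dvd (Nat.pos_of_ne_zero hA0) h3
  omega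

/-- `Q` is isomorphic to `S × O`. -/
noncomputable def Split.equiv : S × O ≃* Q :=
  MulEquiv.ofBijective
    ({ toFun := fun p => ⟨(p.1 : G) * p.2, mul_mem (sp.le_S p.1.2) (sp.le_O p.2.2)⟩
       map_one' := Subtype.ext (by simp)
       map_mul' := fun p r => Subtype.ext (by
        show ((p.1 : G) * r.1) * (p.2 * r.2) = (p.1 * p.2) * (r.1 * r.2)
        rw [mul_assoc, ← mul_assoc (r.1 : G), (sp.comm r.1 r.1.2 p.2 p.2.2).eq, mul_assoc (p.2 : G),
          mul_assoc]) } : S × O →* Q)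
    ⟨(injective_iff_map_eq_one _).2 fun p hp => by
      have h1 : (p.1 : G) * p.2 = 1 := congrArg Subtype.val hp
      have h2 : (p.1 : G) ∈ S ⊓ O :=
        Subgroup.mem_inf.2 ⟨p.1.2, by rw [eq_inv_of_mul_eq_one_left h1]; exact O.inv_mem p.2.2⟩
      rw [sp.inf_eq, Subgroup.mem_bot] at h2
      rw [h2, one_mul] at h1
      exact Prod.ext (Subtype.ext h2) (Subtype.ext h1),
    fun q => by
      obtain ⟨x, hx, y, hy, e⟩ := sp.exists_mul q q.2
      exact ⟨(⟨x, hx⟩, ⟨y, hy⟩), Subtype.ext e.symm⟩⟩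

theorem Split.equiv_apply (p : S × O) : ((sp.equiv p : Q) : G) = (p.1 : G) * p.2 := rfl

end Cfsg.Agent.Involutions.RankOne.Char
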